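import Mathlib
import Cfsg.Agent.J2Type.SylowSeven
import Cfsg.Agent.Prune
set_option linter.all false
prune_inst 0x7f00000000000000000000000000000000000000000000000000000000000000000000000000000000000000000000000000000000000000000000000000000000000000000000000000000000000000003fffffffffffffffffffffffffffbeffbdffffffff
open scoped Cfsg.Agent.FastGrp

/-!
# Orders of normalizers of Sylow subgroups of prime order (helper839)
-/

set_option autoImplicit false

namespace Cfsg.Agent.H839.Count

open Subgroup

section

variable {G : Type*} [Group G]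

/-- the product of two commuting subgroups with trivial intersection -/
theorem card_sup_of_comm {A B : Subgroup G} (h : ∀ a ∈ A, ∀ b ∈ B, a * b = b * a) (hd : A ⊓ B = ⊥) :
    Nat.card ↥(A ⊔ B) = Nat.card ↥A * Nat.card ↥B := by
  have hc : ∀ (a : ↥A) (b : ↥B), Commute (A.subtype a) (B.subtype b) := fun a b => h a a.2 b b.2
  have hinj : Function.Injective (A.subtype.noncommCoprod B.subtype hc) := by
    rw [injective_iff_map_eq_one]
    rintro ⟨a, b⟩ hab
    rw [MonoidHom.noncommCoprod_apply] at hab
    have h1 : (a : G) * (b : G) = 1 := hab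
    have h2 : (a : G) = (b : G)⁻¹ := eq_inv_of_mul_eq_one_left h1
    have h5 : (a : G) ∈ B := by rw [h2]; exact B.inv_mem b.2
    have h3 : (a : G) ∈ A ⊓ B := ⟨a.2, h5⟩
    rw [hd, mem_bot] at h3
    have h4 : (b : G) = 1 := by rwa [h3, one_mul] at h1
    exact Prod.ext (Subtype.ext h3) (Subtype.ext h4)
  have h1 : A ⊔ B = (A.subtype.noncommCoprod B.subtype hc).range := by
    rw [MonoidHom.noncommCoprod_range, range_subtype, range_subtype]
  rw [h1, ← Nat.card_congr (MonoidHom.ofInjective hinj).toEquiv, Nat.card_prod]

theorem relIndex_mul_card' {H K : Subgroup G} (h : H ≤ K) : H.relIndex K * Nat.card ↥H = Nat.card ↥K := by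
  have h1 := (H.subgroupOf K).index_mul_card
  have h2 : Nat.card ↥(H.subgroupOf K) = Nat.card ↥H := Nat.card_congr (subgroupOfEquivOfLe h).toEquiv
  rw [h2] at h1
  exact h1

/-- the order of the normalizer of a Sylow subgroup of prime order -/
theorem card_normalizer [Finite G] {p c : ℕ} (hp : p.Prime) {X : Subgroup G} (hX : Nat.card X = p)
    (hG : ¬ p ^ 2 ∣ Nat.card G) (hC : Nat.card ↥(centralizer (X : Set G)) = c) :
    ∃ e n : ℕ, e ∣ p - 1 ∧ Nat.card ↥(normalizer (X : Set G)) = c * e ∧ n ≡ 1 [MOD p] ∧
      n * (c * e) = Nat.card G := by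
  have : Fact p.Prime := ⟨hp⟩
  refine ⟨(centralizer (X : Set G)).relIndex (normalizer (X : Set G)), (normalizer (X : Set G)).index,
    Cfsg.Agent.J2Type.SylowSeven.relIndex_dvd_of_card_prime X hp hX, ?_, ?_, ?_⟩
  · rw [← hC, mul_comm]
    exact (relIndex_mul_card' (centralizer_le_normalizer _)).symm
  · have hpX : IsPGroup p ↥X := IsPGroup.of_card (n := 1) (by rw [hX, pow_one])
    obtain ⟨P, hP⟩ := hpX.exists_le_sylow
    have hPX : (P : Subgroup G) = X := by
      symm
      apply eq_of_le_of_card_ge hP
      rw [hX]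
      obtain ⟨n, hn⟩ := IsPGroup.iff_card.1 P.isPGroup'
      have h1 : p ^ n ∣ Nat.card G := by rw [← hn]; exact card_subgroup_dvd_card _
      have h2 : n < 2 := by
        by_contra h2
        exact hG ((pow_dvd_pow p (by omega)).trans h1)
      rw [show Nat.card ↥(P : Subgroup G) = p ^ n from hn]
      calc p ^ n ≤ p ^ 1 := Nat.pow_le_pow_right hp.pos (by omega)
        _ = p := pow_one p
    rw [← hPX]
    have h6 := Sylow.card_eq_index_normalizer P
    have h7 := card_sylow_modEq_one p G
    rw [h6] at h7
    exact h7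
  · have h1 : Nat.card ↥(centralizer (X : Set G)) *
        (centralizer (X : Set G)).relIndex (normalizer (X : Set G)) = Nat.card ↥(normalizer (X : Set G)) := by
      rw [mul_comm]
      exact relIndex_mul_card' (centralizer_le_normalizer _)
    rw [← hC, h1, index_mul_card]

end

end Cfsg.Agent.H839.Count
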