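import Cfsg.Agent.H839.SeventeenMain_m3
import Cfsg.Agent.H831.Triple8
import Cfsg.Agent.H831.Types
import Cfsg.Agent.Prune
set_option linter.all false
prune_inst 0x7f00000000000000000000000000000000000000000000000000000000000000000000000000000000000000000000000000000000000000000000000000000000000000000000000000000000000000003fffffffffffffffffffffffffffbeffbdffffffff
open scoped Cfsg.Agent.FastGrp

/-!
# A 3-transposition group of type M(23) is `Fi23` with its class of transpositions (helper839, from helper831)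
-/

set_option autoImplicit false

namespace Cfsg.Agent.H839.Bridge

open Cfsg

/-- **type M(23)**: an isomorphism from the presented `Fi23` carrying the class of transpositions to `D` -/
theorem exists_iso {G : Type*} [Group G] [Finite G] {D : Set G} (hD : IsThreeTranspositionGroup D)
    (hprim : IsPrimitiveUnderConj D) (h : IsOfTypeM23 G D) :
    ∃ e : Cfsg.Spor.Fi23 ≃* G, e '' Cfsg.Agent.H838.Fi23.DD = D := by
  obtain ⟨d, hd, -⟩ := hprim.2.1
  obtain ⟨e, -, he, -⟩ := Cfsg.Agent.H831.T7Iso.exists_iso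
    (Cfsg.Agent.H831.Types.fgroup_m23 hD hprim h) (Cfsg.Agent.H831.Types.isT7 hD hprim h) hd
  refine ⟨e, ?_⟩
  have hDD : ∀ x, x ∈ Cfsg.Agent.H838.Fi23.DD ↔ IsConj Cfsg.Agent.Fischer.Fi23Z.z0 x := by
    intro x
    rw [Cfsg.Agent.H838.Fi23.DD_eq .z, isConj_iff]
    constructor
    · rintro ⟨g, hg⟩
      exact ⟨g, hg.symm⟩
    · rintro ⟨g, hg⟩
      exact ⟨g, hg.symm⟩
  ext y
  constructor
  · rintro ⟨x, hx, rfl⟩
    exact (he x).2 ((hDD x).1 hx)
  · intro hy
    refine ⟨e.symm y, (hDD _).2 ((he _).1 ?_), e.apply_symm_apply y⟩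
    rwa [e.apply_symm_apply]

end Cfsg.Agent.H839.Bridge
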